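import Cfsg.Agent.S3335
import Cfsg.Agent.Lib.TC.Iso

/-!
# A double cover of the alternating group of degree `11`

An involution of a finite group whose centraliser has order at most `2 * |A₁₁|` and contains elements which
satisfy the relations of Carmichael's presentation of `A₁₁` modulo the involution, with `x₁ ^ 2` equal to the
involution, has a centraliser which is a non-split double cover of `A₁₁`.
-/

set_option autoImplicit false

namespace Cfsg.Agent.Lib.DCE.A11Cover

open Cfsg.Agent.Lib.TC.Iso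

section

variable {G : Type*} [Group G]

/-- The elements of the presentation. -/
def xs (x0 x1 g : G) : ℕ → G
  | 0 => x0
  | 1 => x1
  | (j + 2) => g⁻¹ * xs x0 x1 g (j + 1) * g

/-- The relations. -/
structure Data (t x0 x1 g : G) : Prop where
  tsq : t * t = 1
  tne : t ≠ 1
  c0 : x0 * t = t * x0
  c1 : x1 * t = t * x1
  c2 : g * t = t * g
  r0 : x0 ^ 3 = 1
  r1 : x1 * x1 = t
  r2 : (x0 * x1) ^ 3 = 1
  r3 : (x1 * xs x0 x1 g 2) ^ 3 = t
  r4 : ∀ j, 2 ≤ j → j ≤ 8 → (x0 * xs x0 x1 g j) ^ 2 = t
  r5 : ∀ j, 3 ≤ j → j ≤ 8 → (x1 * xs x0 x1 g j) ^ 2 = t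

variable {t x0 x1 g : G}

theorem Data.comm (D : Data t x0 x1 g) (j : ℕ) : xs x0 x1 g j * t = t * xs x0 x1 g j := by
  have hg : g⁻¹ * t = t * g⁻¹ := by
    have h := D.c2
    calc g⁻¹ * t = g⁻¹ * (t * g) * g⁻¹ := by group
      _ = g⁻¹ * (g * t) * g⁻¹ := by rw [h]
      _ = t * g⁻¹ := by group
  induction j using Nat.strong_induction_on with
  | _ j ih =>
    match j with
    | 0 => exact D.c0
    | 1 => exact D.c1
    | (j + 2) =>
      have h1 := ih (j + 1) (by omega)
      rw [xs]
      calc g⁻¹ * xs x0 x1 g (j + 1) * g * t = g⁻¹ * xs x0 x1 g (j + 1) * (g * t) := by group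
        _ = g⁻¹ * (xs x0 x1 g (j + 1) * t) * g := by rw [D.c2]; group
        _ = (g⁻¹ * t) * xs x0 x1 g (j + 1) * g := by rw [h1]; group
        _ = t * (g⁻¹ * xs x0 x1 g (j + 1) * g) := by rw [hg]; group

/-- The conjugation by a power of `g`. -/
noncomputable def cj (g : G) (k : ℕ) : G ≃* G := MulAut.conj (g ^ k)⁻¹

theorem xs_shift (x0 x1 g : G) (j k : ℕ) : xs x0 x1 g (j + 1 + k) = cj g k (xs x0 x1 g (j + 1)) := by
  induction k with
  | zero => simp [cj]
  | succ k ih =>
    have h : j + 1 + (k + 1) = (j + k) + 2 := by omega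
    have h2 : j + k + 1 = j + 1 + k := by omega
    rw [h, xs, h2, ih]
    simp only [cj, MulAut.conj_apply, pow_succ, mul_inv_rev, inv_inv]
    group

theorem Data.cj_t (D : Data t x0 x1 g) (k : ℕ) : cj g k t = t := by
  have h : g ^ k * t = t * g ^ k := (Commute.pow_left (show Commute g t from D.c2) k)
  simp only [cj, MulAut.conj_apply, inv_inv]
  calc (g ^ k)⁻¹ * t * g ^ k = (g ^ k)⁻¹ * (t * g ^ k) := by group
    _ = (g ^ k)⁻¹ * (g ^ k * t) := by rw [h]
    _ = t := by group

theorem Data.sq (D : Data t x0 x1 g) (i : ℕ) : xs x0 x1 g (i + 1) * xs x0 x1 g (i + 1) = t := by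
  have h1 := xs_shift x0 x1 g 0 i
  have e : 0 + 1 + i = i + 1 := by omega
  rw [e] at h1
  rw [h1, ← map_mul]
  have h2 : xs x0 x1 g (0 + 1) * xs x0 x1 g (0 + 1) = t := D.r1
  rw [h2, D.cj_t]

theorem Data.adj (D : Data t x0 x1 g) (i : ℕ) : (xs x0 x1 g (i + 1) * xs x0 x1 g (i + 2)) ^ 3 = t := by
  have h1 := xs_shift x0 x1 g 0 i
  have h2 := xs_shift x0 x1 g 1 i
  have e1 : 0 + 1 + i = i + 1 := by omega
  have e2 : 1 + 1 + i = i + 2 := by omega
  rw [e1] at h1
  rw [e2] at h2
  rw [h1, h2, ← map_mul, ← map_pow]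
  have h3 : (xs x0 x1 g (0 + 1) * xs x0 x1 g (1 + 1)) ^ 3 = t := D.r3
  rw [h3, D.cj_t]

theorem Data.far (D : Data t x0 x1 g) (i j : ℕ) (h1 : i + 1 < j) (h2 : j ≤ 8) :
    (xs x0 x1 g i * xs x0 x1 g j) ^ 2 = t := by
  match i, h1 with
  | 0, h1 => exact D.r4 j (by omega) h2
  | (i + 1), h1 =>
    obtain ⟨m, rfl⟩ : ∃ m, j = m + 1 + i := ⟨j - 1 - i, by omega⟩
    have h3 := xs_shift x0 x1 g 0 i
    have h4 := xs_shift x0 x1 g m i
    have e1 : 0 + 1 + i = i + 1 := by omega
    rw [e1] at h3
    rw [h3, h4, ← map_mul, ← map_pow]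
    have h5 : (xs x0 x1 g (0 + 1) * xs x0 x1 g (m + 1)) ^ 2 = t := D.r5 (m + 1) (by omega) (by omega)
    rw [h5, D.cj_t]

end

section quot

variable {H T : Type*} [Group H] [Group T]

/-- A group with no subgroup of index two. -/
theorem no_index_two [Finite H] [IsSimpleGroup T] (z : H) (hz : orderOf z = 2) [(Subgroup.zpowers z).Normal]
    (ψ : T ≃* H ⧸ Subgroup.zpowers z) (y : H) (hy : y * y = z) (hcard : 4 < Nat.card H) (L : Subgroup H) :
    L.index ≠ 2 := by
  intro hL
  have hLn : L.Normal := Subgroup.normal_of_index_eq_two hL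
  have hzL : z ∈ L := by
    rw [← hy]
    exact Subgroup.mul_self_mem_of_index_two hL y
  have hZL : Subgroup.zpowers z ≤ L := (Subgroup.zpowers_le).2 hzL
  let M : Subgroup T := (L.map (QuotientGroup.mk' (Subgroup.zpowers z))).comap ψ.toMonoidHom
  have hMn : M.Normal := by
    have h1 : (L.map (QuotientGroup.mk' (Subgroup.zpowers z))).Normal :=
      hLn.map _ (QuotientGroup.mk'_surjective _)
    exact h1.comap _
  rcases IsSimpleGroup.eq_bot_or_eq_top_of_normal M hMn with h | h
  · have hle : L ≤ Subgroup.zpowers z := by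
      intro l hl
      have h1 : ψ.symm (QuotientGroup.mk l) ∈ M := by
        change ψ (ψ.symm (QuotientGroup.mk l)) ∈ L.map (QuotientGroup.mk' (Subgroup.zpowers z))
        rw [ψ.apply_symm_apply]
        exact ⟨l, hl, rfl⟩
      rw [h, Subgroup.mem_bot] at h1
      have h2 : (QuotientGroup.mk l : H ⧸ Subgroup.zpowers z) = 1 := by
        have := congrArg ψ h1
        rwa [ψ.apply_symm_apply, map_one] at this
      exact (QuotientGroup.eq_one_iff l).1 h2
    have h1 : Nat.card L ≤ 2 := by
      have h2 := Subgroup.card_le_of_le hle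
      rwa [Nat.card_zpowers, hz] at h2
    have h2 := Subgroup.card_mul_index L
    rw [hL] at h2
    omega
  · have htop : L = ⊤ := by
      rw [eq_top_iff]
      intro g _
      have h1 : ψ.symm (QuotientGroup.mk g) ∈ M := by
        rw [h]
        trivial
      change ψ (ψ.symm (QuotientGroup.mk g)) ∈ L.map (QuotientGroup.mk' (Subgroup.zpowers z)) at h1
      rw [ψ.apply_symm_apply] at h1
      obtain ⟨l, hl, hlg⟩ := h1
      have h2 : (QuotientGroup.mk l : H ⧸ Subgroup.zpowers z) = QuotientGroup.mk g := hlg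
      have h3 : l⁻¹ * g ∈ Subgroup.zpowers z := QuotientGroup.eq.1 h2
      have h4 : g = l * (l⁻¹ * g) := by group
      rw [h4]
      exact L.mul_mem hl (hZL h3)
    rw [htop, Subgroup.index_top] at hL
    omega

end quot

theorem card_A11 : Nat.card (alternatingGroup (Fin 11)) = 19958400 := by
  rw [nat_card_alternatingGroup]
  simp [Nat.factorial]

instance simpleA11 : IsSimpleGroup (alternatingGroup (Fin 11)) := alternatingGroup.isSimpleGroup (by simp)

theorem noncommA11 : ∃ a b : alternatingGroup (Fin 11), a * b ≠ b * a := by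
  by_contra hc
  push Not at hc
  letI : CommGroup (alternatingGroup (Fin 11)) := { (inferInstance : Group (alternatingGroup (Fin 11))) with mul_comm := hc }
  have h : (Nat.card (alternatingGroup (Fin 11))).Prime := IsSimpleGroup.prime_card
  rw [card_A11] at h
  norm_num at h

section main

variable {G : Type*} [Group G] [Finite G] {t x0 x1 g : G}

/-- The main theorem of this file. -/
theorem main (D : Data t x0 x1 g) (hcard : Nat.card (Subgroup.centralizer ({t} : Set G)) ≤ 39916800) :
    Cfsg.IsNonsplitDoubleCover (Subgroup.centralizer ({t} : Set G)) (alternatingGroup (Fin 11)) := by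
  classical
  set C := Subgroup.centralizer ({t} : Set G) with hC
  have hmemC : ∀ y : G, y * t = t * y → y ∈ C := by
    intro y hy
    rw [hC, Subgroup.mem_centralizer_iff]
    intro h hh
    rw [Set.mem_singleton_iff] at hh
    subst hh
    exact hy.symm
  let z : C := ⟨t, hmemC t rfl⟩
  have hzne : z ≠ 1 := by
    intro h
    exact D.tne (congrArg Subtype.val h)
  have hzsq : z * z = 1 := Subtype.ext D.tsq
  have hzo : orderOf z = 2 := by
    apply orderOf_eq_prime
    · rw [pow_two]
      exact hzsq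
    · exact hzne
  have hzc : ∀ c : C, c * z = z * c := by
    rintro ⟨c, hc⟩
    apply Subtype.ext
    exact ((Subgroup.mem_centralizer_iff.1 hc) t rfl).symm
  have hZn : (Subgroup.zpowers z).Normal := by
    have hle : Subgroup.zpowers z ≤ Subgroup.center C := by
      rw [Subgroup.zpowers_le, Subgroup.mem_center_iff]
      exact fun c => hzc c
    refine ⟨fun n hn c => ?_⟩
    have h1 := hle hn
    have h2 := Subgroup.mem_center_iff.1 h1 c
    rw [h2]
    simpa using hn
  let Z := Subgroup.zpowers z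
  -- the generators
  let y : ℕ → C := fun i => ⟨xs x0 x1 g i, hmemC _ (D.comm i)⟩
  have hmk : ∀ c : C, (c : G) = 1 ∨ (c : G) = t → (QuotientGroup.mk c : C ⧸ Z) = 1 := by
    intro c hc
    apply (QuotientGroup.eq_one_iff c).2
    rcases hc with hc | hc
    · have : c = 1 := Subtype.ext hc
      rw [this]
      exact Subgroup.one_mem _
    · have : c = z := Subtype.ext hc
      rw [this]
      exact Subgroup.mem_zpowers z
  let f : Fin (11 - 2) → C ⧸ Z := fun i => QuotientGroup.mk (y i.1)
  obtain ⟨e⟩ := Cfsg.Agent.S3335.result 11 (by norm_num)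
  have hrel : ∀ r ∈ ({g : FreeGroup (Fin (11 - 2)) | ∃ i : Fin (11 - 2), i.val = 0 ∧ g = FreeGroup.of i ^ 3} ∪
       {g | ∃ i : Fin (11 - 2), 1 ≤ i.val ∧ g = FreeGroup.of i ^ 2} ∪
       {g | ∃ i j : Fin (11 - 2), j.val = i.val + 1 ∧ g = (FreeGroup.of i * FreeGroup.of j) ^ 3} ∪
       {g | ∃ i j : Fin (11 - 2), i.val + 1 < j.val ∧ g = (FreeGroup.of i * FreeGroup.of j) ^ 2}),
       FreeGroup.lift f r = 1 := by
    rintro r (((⟨i, hi, rfl⟩ | ⟨i, hi, rfl⟩) | ⟨i, j, hj, rfl⟩) | ⟨i, j, hj, rfl⟩)
    · simp only [map_pow, FreeGroup.lift_apply_of]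
      change ((QuotientGroup.mk (y i.1) : C ⧸ Z)) ^ 3 = 1
      rw [← QuotientGroup.mk_pow]
      apply hmk
      left
      rw [hi]
      exact D.r0
    · simp only [map_pow, FreeGroup.lift_apply_of]
      change ((QuotientGroup.mk (y i.1) : C ⧸ Z)) ^ 2 = 1
      rw [← QuotientGroup.mk_pow]
      apply hmk
      right
      obtain ⟨m, hm⟩ : ∃ m, i.val = m + 1 := ⟨i.val - 1, by omega⟩
      rw [hm, pow_two]
      exact D.sq m
    · simp only [map_pow, map_mul, FreeGroup.lift_apply_of]
      change ((QuotientGroup.mk (y i.1) : C ⧸ Z) * QuotientGroup.mk (y j.1)) ^ 3 = 1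
      rw [← QuotientGroup.mk_mul, ← QuotientGroup.mk_pow]
      apply hmk
      rw [hj]
      by_cases hi : i.val = 0
      · left
        rw [hi]
        exact D.r2
      · right
        obtain ⟨m, hm⟩ : ∃ m, i.val = m + 1 := ⟨i.val - 1, by omega⟩
        rw [hm]
        exact D.adj m
    · simp only [map_pow, map_mul, FreeGroup.lift_apply_of]
      change ((QuotientGroup.mk (y i.1) : C ⧸ Z) * QuotientGroup.mk (y j.1)) ^ 2 = 1
      rw [← QuotientGroup.mk_mul, ← QuotientGroup.mk_pow]
      apply hmk
      right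
      have hj2 : j.val < 9 := j.2
      exact D.far i.1 j.1 hj (by omega)
  let F0 := PresentedGroup.toGroup hrel
  let F : alternatingGroup (Fin 11) →* C ⧸ Z := F0.comp e.symm.toMonoidHom
  have hFinj : Function.Injective F := by
    rw [← MonoidHom.ker_eq_bot_iff]
    rcases IsSimpleGroup.eq_bot_or_eq_top_of_normal F.ker (MonoidHom.normal_ker F) with h | h
    · exact h
    · exfalso
      have h1 : F (e (PresentedGroup.of ⟨0, by norm_num⟩)) = 1 := by
        have : e (PresentedGroup.of ⟨0, by norm_num⟩) ∈ F.ker := by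
          rw [h]
          trivial
        exact this
      have h2 : F (e (PresentedGroup.of ⟨0, by norm_num⟩)) = f ⟨0, by norm_num⟩ := by
        change F0 (e.symm (e (PresentedGroup.of ⟨0, by norm_num⟩))) = _
        rw [e.symm_apply_apply]
        exact PresentedGroup.toGroup.of hrel
      rw [h2] at h1
      have h3 : y 0 ∈ Z := (QuotientGroup.eq_one_iff _).1 h1
      have h4 : (y 0 : C) = 1 ∨ (y 0 : C) = z := by
        obtain ⟨k, hk⟩ := Subgroup.mem_zpowers_iff.1 h3
        rcases Int.emod_two_eq_zero_or_one k with hk2 | hk2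
        · left
          rw [← hk, ← Int.mul_ediv_add_emod k 2, hk2, add_zero, zpow_mul]
          have : z ^ (2 : ℤ) = 1 := by
            rw [zpow_two]
            exact hzsq
          rw [this, one_zpow]
        · right
          rw [← hk, ← Int.mul_ediv_add_emod k 2, hk2, zpow_add, zpow_mul]
          have : z ^ (2 : ℤ) = 1 := by
            rw [zpow_two]
            exact hzsq
          rw [this, one_zpow, one_mul, zpow_one]
      have hx0 : x0 = 1 ∨ x0 = t := by
        rcases h4 with h4 | h4
        · left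
          exact congrArg Subtype.val h4
        · right
          exact congrArg Subtype.val h4
      rcases hx0 with h5 | h5
      · -- then `x1 ^ 3 = 1`
        have h6 := D.r2
        rw [h5, one_mul] at h6
        have h7 : x1 ^ 3 = t * x1 := by
          rw [pow_succ, pow_two, D.r1]
        rw [h7] at h6
        have h8 : x1 = t := by
          calc x1 = t * (t * x1) := by rw [← mul_assoc, D.tsq, one_mul]
            _ = t := by rw [h6, mul_one]
        have h9 := D.r1
        rw [h8, D.tsq] at h9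
        exact D.tne h9.symm
      · have h6 := D.r0
        rw [h5, pow_succ, pow_two, D.tsq, one_mul] at h6
        exact D.tne h6
  -- the order
  have hZc : Nat.card Z = 2 := by
    rw [Nat.card_zpowers, hzo]
  have hCq : Nat.card C = 2 * Nat.card (C ⧸ Z) := by
    have h1 := Subgroup.card_mul_index Z
    rw [hZc] at h1
    rw [← h1, Subgroup.index_eq_card]
  have hle : Nat.card (C ⧸ Z) ≤ Nat.card (alternatingGroup (Fin 11)) := by
    rw [card_A11]
    omega
  have hFbij : Function.Bijective F := (Nat.bijective_iff_injective_and_card F).2 ⟨hFinj, le_antisymm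
    (Nat.card_le_card_of_injective F hFinj) hle⟩
  let ψ : alternatingGroup (Fin 11) ≃* C ⧸ Z := MulEquiv.ofBijective F hFbij
  have hCard : 4 < Nat.card C := by
    have h1 := Nat.card_le_card_of_injective F hFinj
    rw [card_A11] at h1
    omega
  exact isNonsplitDoubleCover_of_data z hzo hzc noncommA11 ψ
    (no_index_two z hzo ψ (y 1) (Subtype.ext D.r1) hCard)

end main

section transport

variable {G G' : Type*} [Group G] [Group G'] {t x0 x1 g : G}

theorem xs_map (f : G ≃* G') (x0 x1 g : G) (j : ℕ) :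
    xs (f x0) (f x1) (f g) j = f (xs x0 x1 g j) := by
  induction j using Nat.strong_induction_on with
  | _ j ih =>
    match j with
    | 0 => rfl
    | 1 => rfl
    | (j + 2) =>
      rw [xs, xs, ih (j + 1) (by omega), map_mul, map_mul, map_inv]

theorem Data.map (f : G ≃* G') (D : Data t x0 x1 g) : Data (f t) (f x0) (f x1) (f g) where
  tsq := by rw [← map_mul, D.tsq, map_one]
  tne := fun h => D.tne (by simpa using h)
  c0 := by rw [← map_mul, ← map_mul, D.c0]
  c1 := by rw [← map_mul, ← map_mul, D.c1]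
  c2 := by rw [← map_mul, ← map_mul, D.c2]
  r0 := by rw [← map_pow, D.r0, map_one]
  r1 := by rw [← map_mul, D.r1]
  r2 := by rw [← map_mul, ← map_pow, D.r2, map_one]
  r3 := by rw [xs_map, ← map_mul, ← map_pow, D.r3]
  r4 := fun j h1 h2 => by rw [xs_map, ← map_mul, ← map_pow, D.r4 j h1 h2]
  r5 := fun j h1 h2 => by rw [xs_map, ← map_mul, ← map_pow, D.r5 j h1 h2]

theorem card_centralizer_map (f : G ≃* G') (t : G) :
    Nat.card (Subgroup.centralizer ({f t} : Set G')) = Nat.card (Subgroup.centralizer ({t} : Set G)) := by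
  refine Nat.card_congr ⟨fun c => ⟨f.symm c.1, ?_⟩, fun c => ⟨f c.1, ?_⟩, ?_, ?_⟩
  · rw [Subgroup.mem_centralizer_iff]
    intro h hh
    rw [Set.mem_singleton_iff] at hh
    subst hh
    have h1 := (Subgroup.mem_centralizer_iff.1 c.2) (f h) rfl
    apply f.injective
    simpa using h1
  · rw [Subgroup.mem_centralizer_iff]
    intro h hh
    rw [Set.mem_singleton_iff] at hh
    subst hh
    have h1 := (Subgroup.mem_centralizer_iff.1 c.2) t rfl
    rw [← map_mul, ← map_mul, h1]
  · intro c
    apply Subtype.ext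
    simp
  · intro c
    apply Subtype.ext
    simp

end transport

end Cfsg.Agent.Lib.DCE.A11Cover
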