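import Mathlib

/-!
# Double cosets from a table

A group `P` generated by a subgroup `H` and an element `z` with `z * z ∈ H`.  Right cosets of `H`
are compared with `Eqv`.  If finitely many elements `W j` have the property that the right cosets
`H * W j * h` are closed under right multiplication by `z`, then `P` is the union of the double
cosets `H * W j * H`, which gives a bound for the index of `H`.
-/

set_option autoImplicit false

namespace Cfsg.Agent.Lib.DCE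

variable {P : Type*} [Group P]

/-- Two elements in the same right coset. -/
def Eqv (H : Subgroup P) (x y : P) : Prop := x * y⁻¹ ∈ H

namespace Eqv

variable {H : Subgroup P} {x y w : P}

theorem refl (H : Subgroup P) (x : P) : Eqv H x x := by
  simp [Eqv, H.one_mem]

theorem symm (h : Eqv H x y) : Eqv H y x := by
  have := H.inv_mem h
  simpa [Eqv] using this

theorem trans (h : Eqv H x y) (h' : Eqv H y w) : Eqv H x w := by
  have := H.mul_mem h h'
  simpa [Eqv, mul_assoc] using this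

theorem mul_right (h : Eqv H x y) (g : P) : Eqv H (x * g) (y * g) := by
  simpa [Eqv, mul_assoc] using h

theorem of_mul_right {g : P} (h : Eqv H (x * g) (y * g)) : Eqv H x y := by
  simpa using h.mul_right g⁻¹

theorem left_mem {h : P} (hh : h ∈ H) (x : P) : Eqv H (h * x) x := by
  simpa [Eqv, mul_assoc] using hh

theorem of_eq (h : x = y) : Eqv H x y := by
  rw [h]
  exact refl H y

end Eqv

/-- The union of the double cosets is everything. -/
theorem cover_of_table (H : Subgroup P) (z : P) (hzz : z * z ∈ H)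
    (hgen : Subgroup.closure ((H : Set P) ∪ {z}) = ⊤)
    {m : ℕ} (W : Fin m → P) (j0 : Fin m) (hW0 : W j0 = 1)
    (hT : ∀ j, ∀ h ∈ H, ∃ k, ∃ h' ∈ H, Eqv H (W j * h * z) (W k * h')) (x : P) :
    ∃ j, ∃ h ∈ H, Eqv H x (W j * h) := by
  set C : Set P := {x | ∃ j, ∃ h ∈ H, Eqv H x (W j * h)} with hC
  have hCH : ∀ x ∈ C, ∀ g ∈ H, x * g ∈ C := by
    rintro x ⟨j, h, hh, hx⟩ g hg
    refine ⟨j, h * g, H.mul_mem hh hg, ?_⟩
    have := hx.mul_right g
    simpa [mul_assoc] using this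
  have hCz : ∀ x ∈ C, x * z ∈ C := by
    rintro x ⟨j, h, hh, hx⟩
    obtain ⟨k, h', hh', hk⟩ := hT j h hh
    exact ⟨k, h', hh', (hx.mul_right z).trans hk⟩
  have hCzi : ∀ x ∈ C, x * z⁻¹ ∈ C := by
    intro x hx
    have h1 := hCH _ (hCz x hx) _ (H.inv_mem hzz)
    have h2 : x * z * (z * z)⁻¹ = x * z⁻¹ := by group
    rwa [h2] at h1
  let T : Subgroup P :=
    { carrier := {g | (∀ x ∈ C, x * g ∈ C) ∧ (∀ x ∈ C, x * g⁻¹ ∈ C)}
      one_mem' := by simp
      mul_mem' := by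
        rintro a b ⟨ha, ha'⟩ ⟨hb, hb'⟩
        refine ⟨fun x hx => ?_, fun x hx => ?_⟩
        · rw [← mul_assoc]
          exact hb _ (ha _ hx)
        · rw [mul_inv_rev, ← mul_assoc]
          exact ha' _ (hb' _ hx)
      inv_mem' := by
        rintro a ⟨ha, ha'⟩
        refine ⟨ha', ?_⟩
        simpa using ha }
  have hT' : T = ⊤ := by
    rw [eq_top_iff, ← hgen]
    apply (Subgroup.closure_le T).2
    rintro g (hg | hg)
    · exact ⟨fun x hx => hCH x hx g hg, fun x hx => hCH x hx _ (H.inv_mem hg)⟩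
    · rw [Set.mem_singleton_iff] at hg
      subst hg
      exact ⟨hCz, hCzi⟩
  have h1 : (1 : P) ∈ C := ⟨j0, 1, H.one_mem, by simp [hW0, Eqv.refl]⟩
  have hx : x ∈ T := by rw [hT']; trivial
  have h2 := hx.1 1 h1
  rw [one_mul] at h2
  exact h2

/-- The table for all elements from representatives. -/
theorem table_of_reps (H K : Subgroup P) (z : P) (hKz : ∀ k ∈ K, z⁻¹ * k * z ∈ H)
    {m : ℕ} (W : Fin m → P) (S : Fin m → Subgroup P)
    (hSW : ∀ j, ∀ s ∈ S j, W j * s * (W j)⁻¹ ∈ H)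
    (D : Fin m → Set P)
    (hcov : ∀ j, ∀ h ∈ H, ∃ d ∈ D j, ∃ s ∈ S j, ∃ k ∈ K, h = s * d * k)
    (hT : ∀ j, ∀ d ∈ D j, ∃ k, ∃ h' ∈ H, Eqv H (W j * d * z) (W k * h')) :
    ∀ j, ∀ h ∈ H, ∃ k, ∃ h' ∈ H, Eqv H (W j * h * z) (W k * h') := by
  intro j h hh
  obtain ⟨d, hd, s, hs, k, hk, rfl⟩ := hcov j h hh
  obtain ⟨t, h', hh', ht⟩ := hT j d hd
  refine ⟨t, h' * (z⁻¹ * k * z), H.mul_mem hh' (hKz k hk), ?_⟩
  have h1 : W j * (s * d * k) * z = (W j * s * (W j)⁻¹) * (W j * d * z * (z⁻¹ * k * z)) := by group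
  rw [h1]
  refine (Eqv.left_mem (hSW j s hs) _).trans ?_
  have := ht.mul_right (z⁻¹ * k * z)
  simpa [mul_assoc] using this

/-- The map from the cosets in the double cosets. -/
noncomputable def cosetMap (H : Subgroup P) {m : ℕ} (W : Fin m → P) (S : Fin m → Subgroup P)
    (hSW : ∀ j, ∀ s ∈ S j, W j * s * (W j)⁻¹ ∈ H) (j : Fin m) :
    (H ⧸ (S j).subgroupOf H) → P ⧸ H :=
  Quotient.lift (fun h : H => (QuotientGroup.mk ((h : P) * (W j)⁻¹) : P ⧸ H)) (by
    intro a b hab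
    have h1 : (a : H)⁻¹ * b ∈ (S j).subgroupOf H := QuotientGroup.leftRel_apply.1 hab
    rw [Subgroup.mem_subgroupOf] at h1
    apply QuotientGroup.eq.2
    have h2 := hSW j _ h1
    have h3 : ((a : P) * (W j)⁻¹)⁻¹ * ((b : P) * (W j)⁻¹) =
        W j * (((a⁻¹ * b : H)) : P) * (W j)⁻¹ := by
      push_cast
      group
    rw [h3]
    exact h2)

theorem cosetMap_mk (H : Subgroup P) {m : ℕ} (W : Fin m → P) (S : Fin m → Subgroup P)
    (hSW : ∀ j, ∀ s ∈ S j, W j * s * (W j)⁻¹ ∈ H) (j : Fin m) (h : H) :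
    cosetMap H W S hSW j (QuotientGroup.mk h) = QuotientGroup.mk ((h : P) * (W j)⁻¹) := rfl

/-- The surjection. -/
noncomputable def sigmaMap (H : Subgroup P) {m : ℕ} (W : Fin m → P) (S : Fin m → Subgroup P)
    (hSW : ∀ j, ∀ s ∈ S j, W j * s * (W j)⁻¹ ∈ H) :
    (Σ j, H ⧸ (S j).subgroupOf H) → P ⧸ H :=
  fun p => cosetMap H W S hSW p.1 p.2

theorem sigmaMap_surjective (H : Subgroup P) {m : ℕ} (W : Fin m → P) (S : Fin m → Subgroup P)
    (hSW : ∀ j, ∀ s ∈ S j, W j * s * (W j)⁻¹ ∈ H)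
    (hcover : ∀ x : P, ∃ j, ∃ h ∈ H, Eqv H x (W j * h)) :
    Function.Surjective (sigmaMap H W S hSW) := by
  intro y
  obtain ⟨y, rfl⟩ := QuotientGroup.mk_surjective y
  obtain ⟨j, h, hh, hx⟩ := hcover y⁻¹
  refine ⟨⟨j, QuotientGroup.mk ⟨h⁻¹, H.inv_mem hh⟩⟩, ?_⟩
  change (QuotientGroup.mk (h⁻¹ * (W j)⁻¹) : P ⧸ H) = _
  apply QuotientGroup.eq.2
  have h1 : (h⁻¹ * (W j)⁻¹)⁻¹ * y = (y⁻¹ * (W j * h)⁻¹)⁻¹ := by group
  rw [h1]
  exact H.inv_mem hx

/-- The bound for the index. -/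
theorem index_le_of_cover (H : Subgroup P) {m : ℕ} (W : Fin m → P) (S : Fin m → Subgroup P)
    (hSW : ∀ j, ∀ s ∈ S j, W j * s * (W j)⁻¹ ∈ H)
    (hcover : ∀ x : P, ∃ j, ∃ h ∈ H, Eqv H x (W j * h))
    (hfin : ∀ j, ((S j).subgroupOf H).index ≠ 0) :
    H.index ≠ 0 ∧ H.index ≤ ∑ j, ((S j).subgroupOf H).index := by
  classical
  have : ∀ j, Finite (H ⧸ (S j).subgroupOf H) := fun j => by
    have : ((S j).subgroupOf H).FiniteIndex := ⟨hfin j⟩
    exact Subgroup.finite_quotient_of_finiteIndex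
  have : Finite (Σ j, H ⧸ (S j).subgroupOf H) := inferInstance
  have hs := sigmaMap_surjective H W S hSW hcover
  have : Finite (P ⧸ H) := Finite.of_surjective _ hs
  have h1 : Nat.card (P ⧸ H) ≤ Nat.card (Σ j, H ⧸ (S j).subgroupOf H) :=
    Nat.card_le_card_of_surjective _ hs
  have h2 : Nat.card (Σ j, H ⧸ (S j).subgroupOf H) = ∑ j, ((S j).subgroupOf H).index := by
    rw [Nat.card_sigma]
    rfl
  refine ⟨?_, ?_⟩
  · exact Nat.card_pos.ne'
  · change Nat.card (P ⧸ H) ≤ _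
    rw [← h2]
    exact h1

end Cfsg.Agent.Lib.DCE
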