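import Cfsg.Agent.Lib.DCE.Basic

/-!
# The exact sizes of the double cosets

If the bound for the index from the double cosets is attained, the map `sigmaMap` is a bijection, and the index of
`H` in a subgroup `K` between `H` and `P` is the sum of the sizes of the double cosets in `K`.
-/

set_option autoImplicit false

namespace Cfsg.Agent.Lib.DCE

variable {P : Type*} [Group P]

/-- The case of equality. -/
theorem sigma_exact (H : Subgroup P) {m : ℕ} (W : Fin m → P) (S : Fin m → Subgroup P)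
    (hSW : ∀ j, ∀ s ∈ S j, W j * s * (W j)⁻¹ ∈ H)
    (hcover : ∀ x : P, ∃ j, ∃ h ∈ H, Eqv H x (W j * h))
    (n : Fin m → ℕ)
    (hfin : ∀ j, ((S j).subgroupOf H).index ≠ 0)
    (hn : ∀ j, ((S j).subgroupOf H).index ≤ n j)
    (hsum : H.index = ∑ j, n j) :
    (∀ j, ((S j).subgroupOf H).index = n j) ∧ Function.Bijective (sigmaMap H W S hSW) := by
  classical
  have h1 := index_le_of_cover H W S hSW hcover hfin
  have h2 : ∑ j, ((S j).subgroupOf H).index ≤ ∑ j, n j := Finset.sum_le_sum fun j _ => hn j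
  have h3 : ∑ j, ((S j).subgroupOf H).index = ∑ j, n j := by omega
  have h4 : ∀ j, ((S j).subgroupOf H).index = n j := by
    intro j
    exact (Finset.sum_eq_sum_iff_of_le fun j _ => hn j).1 h3 j (Finset.mem_univ j)
  refine ⟨h4, ?_⟩
  have : ∀ j, Finite (H ⧸ (S j).subgroupOf H) := fun j => by
    have : ((S j).subgroupOf H).FiniteIndex := ⟨hfin j⟩
    exact Subgroup.finite_quotient_of_finiteIndex
  have hs := sigmaMap_surjective H W S hSW hcover
  apply hs.bijective_of_nat_card_le
  have h5 : Nat.card (Σ j, H ⧸ (S j).subgroupOf H) = ∑ j, ((S j).subgroupOf H).index := by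
    rw [Nat.card_sigma]
    rfl
  rw [h5]
  change _ ≤ H.index
  omega

/-- The cosets of `H` in `K`. -/
noncomputable def relMap (H K : Subgroup P) : K ⧸ H.subgroupOf K → P ⧸ H :=
  Quotient.lift (fun k : K => (QuotientGroup.mk (k : P) : P ⧸ H)) (by
    intro a b hab
    have h1 : (a : K)⁻¹ * b ∈ H.subgroupOf K := QuotientGroup.leftRel_apply.1 hab
    rw [Subgroup.mem_subgroupOf] at h1
    apply QuotientGroup.eq.2
    simpa using h1)

theorem relMap_mk (H K : Subgroup P) (k : K) :
    relMap H K (QuotientGroup.mk k) = QuotientGroup.mk (k : P) := rfl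

theorem relMap_injective (H K : Subgroup P) : Function.Injective (relMap H K) := by
  intro a b
  obtain ⟨a, rfl⟩ := QuotientGroup.mk_surjective a
  obtain ⟨b, rfl⟩ := QuotientGroup.mk_surjective b
  rw [relMap_mk, relMap_mk]
  intro h
  have h1 := QuotientGroup.eq.1 h
  apply QuotientGroup.eq.2
  rw [Subgroup.mem_subgroupOf]
  simpa using h1

open Classical in
/-- The index of `H` in `K` from the double cosets in `K`. -/
theorem relIndex_eq_sum (H K : Subgroup P) (hK : H ≤ K) {m : ℕ} (W : Fin m → P) (S : Fin m → Subgroup P)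
    (hSW : ∀ j, ∀ s ∈ S j, W j * s * (W j)⁻¹ ∈ H)
    (hfin : ∀ j, ((S j).subgroupOf H).index ≠ 0)
    (hb : Function.Bijective (sigmaMap H W S hSW)) :
    H.relIndex K = ∑ j, if W j ∈ K then ((S j).subgroupOf H).index else 0 := by
  classical
  have : ∀ j, Finite (H ⧸ (S j).subgroupOf H) := fun j => by
    have : ((S j).subgroupOf H).FiniteIndex := ⟨hfin j⟩
    exact Subgroup.finite_quotient_of_finiteIndex
  -- the set of the cosets in `K`
  have hrange : Set.range (relMap H K) =
      sigmaMap H W S hSW '' {p : Σ j, H ⧸ (S j).subgroupOf H | W p.1 ∈ K} := by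
    ext c
    constructor
    · rintro ⟨x, rfl⟩
      obtain ⟨x, rfl⟩ := QuotientGroup.mk_surjective x
      rw [relMap_mk]
      obtain ⟨⟨j, y⟩, hp⟩ := hb.2 (QuotientGroup.mk (x : P))
      refine ⟨⟨j, y⟩, ?_, hp⟩
      obtain ⟨y, rfl⟩ := QuotientGroup.mk_surjective y
      change W j ∈ K
      have h2 : (QuotientGroup.mk ((y : P) * (W j)⁻¹) : P ⧸ H) = QuotientGroup.mk (x : P) := hp
      have h3 := QuotientGroup.eq.1 h2
      have h4 : ((y : P) * (W j)⁻¹)⁻¹ * (x : P) ∈ K := hK h3
      have h5 : W j = ((y : P) * (W j)⁻¹)⁻¹ * (x : P) * (x : P)⁻¹ * (y : P) := by group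
      rw [h5]
      exact K.mul_mem (K.mul_mem h4 (K.inv_mem x.2)) (hK y.2)
    · rintro ⟨⟨j, y⟩, hp, rfl⟩
      obtain ⟨y, rfl⟩ := QuotientGroup.mk_surjective y
      have hp' : W j ∈ K := hp
      refine ⟨QuotientGroup.mk ⟨(y : P) * (W j)⁻¹, K.mul_mem (hK y.2) (K.inv_mem hp')⟩, ?_⟩
      rfl
  have h1 : H.relIndex K = Nat.card (Set.range (relMap H K)) := by
    rw [Nat.card_range_of_injective (relMap_injective H K)]
    rfl
  rw [h1, hrange, Nat.card_image_of_injective hb.1]
  change Nat.card {p : Σ j, H ⧸ (S j).subgroupOf H // W p.1 ∈ K} = _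
  rw [Nat.card_congr (Equiv.subtypeSigmaEquiv (fun j => H ⧸ (S j).subgroupOf H) (fun j => W j ∈ K)),
    Nat.card_sigma]
  have h6 : ∀ a : {j // W j ∈ K}, Nat.card (H ⧸ (S a.1).subgroupOf H) = ((S a.1).subgroupOf H).index := fun _ => rfl
  simp only [h6]
  rw [← Finset.sum_filter]
  exact (Finset.sum_subtype (Finset.univ.filter fun j => W j ∈ K) (by simp)
    (fun j => ((S j).subgroupOf H).index)).symm

end Cfsg.Agent.Lib.DCE
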