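import Cfsg.Agent.Lib.DCE.Basic

/-!
# Counting the cosets fixed by an element

For a finite group `Q`, a subgroup `T` and an element `t`, the number of cosets `q T` fixed by `t` times the order
of `T` is the order of the centraliser of `t` times the number of elements of `T` conjugate to `t`.
-/

set_option autoImplicit false

namespace Cfsg.Agent.Lib.DCE

section count

variable {Q : Type*} [Group Q]

/-- The fixed cosets. -/
def fixSet (T : Subgroup Q) (t : Q) : Set (Q ⧸ T) :=
  {x | ∃ q : Q, (QuotientGroup.mk q : Q ⧸ T) = x ∧ q⁻¹ * t * q ∈ T}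

theorem mem_fixSet_mk (T : Subgroup Q) (t q : Q) :
    (QuotientGroup.mk q : Q ⧸ T) ∈ fixSet T t ↔ q⁻¹ * t * q ∈ T := by
  constructor
  · rintro ⟨r, hr, hm⟩
    have h1 : r⁻¹ * q ∈ T := QuotientGroup.eq.1 hr
    have h2 : q⁻¹ * t * q = (r⁻¹ * q)⁻¹ * (r⁻¹ * t * r) * (r⁻¹ * q) := by group
    rw [h2]
    exact T.mul_mem (T.mul_mem (T.inv_mem h1) hm) h1
  · intro h
    exact ⟨q, rfl, h⟩

/-- The elements of `T` conjugate to `t`. -/
def conjIn (T : Subgroup Q) (t : Q) : Set Q := {y | y ∈ T ∧ IsConj t y}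

/-- The counting formula. -/
theorem fix_card [Finite Q] (T : Subgroup Q) (t : Q) :
    Nat.card (fixSet T t) * Nat.card T =
      Nat.card (Subgroup.centralizer ({t} : Set Q)) * Nat.card (conjIn T t) := by
  classical
  let C := Subgroup.centralizer ({t} : Set Q)
  -- the elements `g` with `g⁻¹ t g ∈ T`
  let A : Set Q := {q | q⁻¹ * t * q ∈ T}
  have hA1 : A = QuotientGroup.mk ⁻¹' (fixSet T t) := by
    ext q
    exact (mem_fixSet_mk T t q).symm
  have h1 : Nat.card A = Nat.card T * Nat.card (fixSet T t) := by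
    rw [hA1, Nat.card_congr (QuotientGroup.preimageMkEquivSubgroupProdSet T (fixSet T t)), Nat.card_prod]
  -- the elements `g` with `g t g⁻¹ ∈ T`
  let B : Set Q := {g | g * t * g⁻¹ ∈ T}
  have hAB : Nat.card A = Nat.card B := by
    refine Nat.card_congr ⟨fun q => ⟨q.1⁻¹, ?_⟩, fun g => ⟨g.1⁻¹, ?_⟩, ?_, ?_⟩
    · have := q.2
      change q.1⁻¹ * t * (q.1⁻¹)⁻¹ ∈ T
      rw [inv_inv]
      exact this
    · have := g.2
      change (g.1⁻¹)⁻¹ * t * g.1⁻¹ ∈ T
      rw [inv_inv]
      exact this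
    · intro q
      simp
    · intro g
      simp
  -- the map to the conjugates
  let Z : Set (Q ⧸ C) := {x | ∃ g : Q, (QuotientGroup.mk g : Q ⧸ C) = x ∧ g * t * g⁻¹ ∈ T}
  have hcomm : ∀ c : Q, c ∈ C → c * t * c⁻¹ = t := by
    intro c hc
    have h2 : t * c = c * t := (Subgroup.mem_centralizer_iff.1 hc) t (Set.mem_singleton t) |>.symm ▸ rfl
    rw [← h2]
    simp
  have hmk : ∀ g h : Q, (QuotientGroup.mk g : Q ⧸ C) = QuotientGroup.mk h ↔ g * t * g⁻¹ = h * t * h⁻¹ := by
    intro g h
    constructor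
    · intro e
      have h1 : g⁻¹ * h ∈ C := QuotientGroup.eq.1 e
      have h2 := hcomm _ h1
      calc g * t * g⁻¹ = g * ((g⁻¹ * h) * t * (g⁻¹ * h)⁻¹) * g⁻¹ := by rw [h2]
        _ = h * t * h⁻¹ := by group
    · intro e
      apply QuotientGroup.eq.2
      rw [Subgroup.mem_centralizer_iff]
      intro x hx
      rw [Set.mem_singleton_iff] at hx
      subst hx
      have h3 : (g⁻¹ * h) * x * (g⁻¹ * h)⁻¹ = x := by
        calc (g⁻¹ * h) * x * (g⁻¹ * h)⁻¹ = g⁻¹ * (h * x * h⁻¹) * g := by group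
          _ = g⁻¹ * (g * x * g⁻¹) * g := by rw [← e]
          _ = x := by group
      calc x * (g⁻¹ * h) = ((g⁻¹ * h) * x * (g⁻¹ * h)⁻¹) * (g⁻¹ * h) := by rw [h3]
        _ = (g⁻¹ * h) * x := by group
  have hB1 : B = QuotientGroup.mk ⁻¹' Z := by
    ext g
    constructor
    · intro h
      exact ⟨g, rfl, h⟩
    · rintro ⟨r, hr, hm⟩
      have := (hmk r g).1 hr
      change g * t * g⁻¹ ∈ T
      rwa [← this]
  have h2 : Nat.card B = Nat.card C * Nat.card Z := by
    rw [hB1, Nat.card_congr (QuotientGroup.preimageMkEquivSubgroupProdSet C Z), Nat.card_prod]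
  have h3 : Nat.card Z = Nat.card (conjIn T t) := by
    have hw : ∀ x : Q ⧸ C, ∃ g : Q, (QuotientGroup.mk g : Q ⧸ C) = x := fun x => QuotientGroup.mk_surjective x
    choose rep hrep using hw
    refine Nat.card_congr (Equiv.ofBijective (fun x : Z => (⟨rep x.1 * t * (rep x.1)⁻¹, ?_⟩ : conjIn T t)) ⟨?_, ?_⟩)
    · obtain ⟨g, hg, hm⟩ := x.2
      have h4 := (hmk (rep x.1) g).1 (by rw [hrep, hg])
      refine ⟨by rw [h4]; exact hm, ?_⟩
      exact isConj_iff.2 ⟨rep x.1, rfl⟩
    · intro x y hxy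
      have h4 : rep x.1 * t * (rep x.1)⁻¹ = rep y.1 * t * (rep y.1)⁻¹ := congrArg Subtype.val hxy
      apply Subtype.ext
      rw [← hrep x.1, ← hrep y.1]
      exact (hmk _ _).2 h4
    · rintro ⟨y, hyT, hy⟩
      obtain ⟨g, rfl⟩ := isConj_iff.1 hy
      have hz : (QuotientGroup.mk g : Q ⧸ C) ∈ Z := ⟨g, rfl, hyT⟩
      refine ⟨⟨_, hz⟩, ?_⟩
      apply Subtype.ext
      exact (hmk _ _).1 (hrep _)
  rw [mul_comm, ← h1, hAB, h2, h3]

end count

section centraliser

variable {G : Type*} [Group G] [Finite G]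

/-- The fixed cosets of a subgroup. -/
def fixCosets (H : Subgroup G) (t : G) : Set (G ⧸ H) := {x | t • x = x}

/-- The order of a centraliser from the fixed points. -/
theorem card_centralizer_le (H : Subgroup G) (t : G) (ht : t ∈ H) :
    Nat.card (Subgroup.centralizer ({t} : Set G)) ≤
      Nat.card (fixCosets H t) * Nat.card ((Subgroup.centralizer ({t} : Set G) ⊓ H : Subgroup G)) := by
  classical
  let C := Subgroup.centralizer ({t} : Set G)
  let x0 : G ⧸ H := QuotientGroup.mk 1
  -- the map from `C` to the fixed points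
  have hfix : ∀ c : C, (c : G) • x0 ∈ fixCosets H t := by
    intro c
    change t • ((c : G) • x0) = (c : G) • x0
    have h1 : t * (c : G) = (c : G) * t := by
      have := (Subgroup.mem_centralizer_iff.1 c.2) t (Set.mem_singleton t)
      exact this
    rw [← mul_smul, h1, mul_smul]
    congr 1
    change (QuotientGroup.mk (t * 1) : G ⧸ H) = QuotientGroup.mk 1
    apply QuotientGroup.eq.2
    simpa using H.inv_mem ht
  let D : Subgroup G := C ⊓ H
  have h1 := Subgroup.card_mul_index (MulAction.stabilizer C x0)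
  rw [MulAction.index_stabilizer] at h1
  have horb : MulAction.orbit C x0 ⊆ fixCosets H t := by
    rintro _ ⟨c, rfl⟩
    exact hfix c
  have h2 : (MulAction.orbit C x0).ncard ≤ (fixCosets H t).ncard := Set.ncard_le_ncard horb (Set.toFinite _)
  have hH : ∀ s : MulAction.stabilizer C x0, ((s : C) : G) ∈ H := by
    intro s
    have h4 : (s : C) • x0 = x0 := s.2
    have h5 : ((s : C) : G) • x0 = x0 := h4
    have h6 : (QuotientGroup.mk (((s : C) : G) * 1) : G ⧸ H) = QuotientGroup.mk 1 := h5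
    have h7 := QuotientGroup.eq.1 h6
    have h8 := H.inv_mem h7
    simpa using h8
  have h3 : Nat.card (MulAction.stabilizer C x0) ≤ Nat.card D :=
    Nat.card_le_card_of_injective (fun s => (⟨((s : C) : G), (s : C).2, hH s⟩ : D)) (by
      intro a b hab
      have h4 : ((a : C) : G) = ((b : C) : G) := congrArg (fun d : D => (d : G)) hab
      exact Subtype.ext (Subtype.ext h4))
  rw [Nat.card_coe_set_eq (fixCosets H t)]
  calc Nat.card C = Nat.card (MulAction.stabilizer C x0) * (MulAction.orbit C x0).ncard := h1.symm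
    _ ≤ Nat.card D * (fixCosets H t).ncard := Nat.mul_le_mul h3 h2
    _ = (fixCosets H t).ncard * Nat.card D := mul_comm _ _

end centraliser

end Cfsg.Agent.Lib.DCE
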