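import Cfsg.Agent.Lib.TC.Iso

/-!
# Orbits of a subgroup on a table

The action of a presented group on a table, and a subgroup generated by words.  A labelling of the points gives the
orbits of the subgroup; the sizes of the orbits divide its order.
-/

namespace Cfsg.Agent.Lib.DCE.Orb

open Cfsg.Agent.Lib.TC.Core Cfsg.Agent.Lib.TC.Pres Cfsg.Agent.Lib.TC.Perm Cfsg.Agent.Lib.TC.Main

variable {α : Type*} {K : Cols α} {R : Set (FreeGroup α)} {C : Cert} {P : PT}
  {rels subs : List (List Nat)} {wit : Nat → Nat × Nat × Bool}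

theorem orb_spec {ts : List (List Nat)} {lab oP oW oD repr : Nat → Nat}
    (hlab : P.orbRange ts lab oP oW oD repr 0 P.n = true) (i : Fin P.n) :
    (∀ l ∈ ts, lab (P.val l i.1) = lab i.1) ∧
      ((oP i.1 = i.1 ∧ repr (lab i.1) = i.1) ∨
        (oP i.1 < P.n ∧ oD (oP i.1) < oD i.1 ∧ lab (oP i.1) = lab i.1 ∧
          P.val (ts.getD (oW i.1) []) (oP i.1) = i.1)) := by
  have hi := P.orbOK_of_range hlab i.1 (by omega) (by have := i.2; omega)
  rw [PT.orbOK, force_eq, andB_eq_true, force_eq] at hi
  obtain ⟨h1, h2⟩ := hi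
  constructor
  · generalize ts = ls at h1
    intro l hl
    induction ls with
    | nil => simp at hl
    | cons m ls ih =>
      have h' : andB (P.walk (fun u => Nat.beq (lab u) (lab i.1)) m i.1)
        (List.rec true (fun l _ ih => andB (P.walk (fun u => Nat.beq (lab u) (lab i.1)) l i.1) ih) ls) = true := h1
      rw [andB_eq_true, PT.walk_eq] at h'
      rcases List.mem_cons.1 hl with rfl | hl
      · exact Nat.eq_of_beq_eq_true h'.1
      · exact ih h'.2 hl
  · cases hb : Nat.beq (oP i.1) i.1 with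
    | true =>
      rw [hb] at h2
      exact Or.inl ⟨Nat.eq_of_beq_eq_true hb, Nat.eq_of_beq_eq_true h2⟩
    | false =>
      rw [hb] at h2
      simp only [andB_eq_true] at h2
      obtain ⟨h0, h3, h4, h5⟩ := h2
      rw [PT.walk_eq] at h5
      exact Or.inr ⟨Nat.le_of_ble_eq_true h0, Nat.le_of_ble_eq_true h3, Nat.eq_of_beq_eq_true h4,
        Nat.eq_of_beq_eq_true h5⟩

section

variable (h : Ok K R C P rels subs wit) (φ : PresentedGroup R →* Equiv.Perm (Fin P.n))
  (hφ : ∀ c, c < K.k → φ (K.E R c) = h.hG.EP c)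
  {ts : List (List Nat)} (hts : ∀ l ∈ ts, ∀ z ∈ l, z < K.k)
  {lab oP oW oD repr : Nat → Nat} (hlab : P.orbRange ts lab oP oW oD repr 0 P.n = true)

include hφ hts in
theorem val_word {l : List Nat} (hl : l ∈ ts) (i : Fin P.n) : (φ (prodA (K.E R) l) i).1 = P.val l i.1 :=
  phi_prodA_apply h.hPk h.hG φ hφ l (hts l hl) i

include hφ hts hlab in
/-- The labels are invariant. -/
theorem T_inv : ∀ g ∈ subOf K R ts, ∀ i : Fin P.n, lab (φ g i).1 = lab i.1 := by
  intro g hg
  induction hg using Subgroup.closure_induction with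
  | mem x hx =>
    obtain ⟨l, hl, rfl⟩ := hx
    intro i
    rw [val_word h φ hφ hts hl]
    exact (orb_spec hlab i).1 l hl
  | one => intro i; simp
  | mul x y _ _ hx hy =>
    intro i
    rw [map_mul, Equiv.Perm.mul_apply, hx, hy]
  | inv x _ hx =>
    intro i
    have h1 := hx ((φ x)⁻¹ i)
    have h2 : φ x ((φ x)⁻¹ i) = i := by simp
    rw [h2] at h1
    rw [map_inv, h1]

include hφ hts hlab in
/-- Every point is an image of the representative of its label. -/
theorem T_conn (i : Fin P.n) : ∃ g ∈ subOf K R ts, ∃ r : Fin P.n, r.1 = repr (lab i.1) ∧ φ g r = i := by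
  have key : ∀ d (m : Fin P.n), oD m.1 = d → ∃ g ∈ subOf K R ts, ∃ r : Fin P.n, r.1 = repr (lab m.1) ∧ φ g r = m := by
    intro d
    induction d using Nat.strong_induction_on with
    | _ d ih =>
      intro m hd
      rcases (orb_spec hlab m).2 with ⟨_, h3⟩ | ⟨hoPn, h3, h4, h5⟩
      · exact ⟨1, Subgroup.one_mem _, m, h3.symm, by simp⟩
      · have hmem : ts.getD (oW m.1) [] ∈ ts := by
          by_cases hi : oW m.1 < ts.length
          · rw [List.getD_eq_getElem _ _ hi]
            exact List.getElem_mem hi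
          · rw [List.getD_eq_default _ _ (by omega)] at h5
            have h6 : oP m.1 = m.1 := h5
            rw [h6] at h3
            omega
        obtain ⟨g, hg, r, hr, e⟩ := ih (oD (oP m.1)) (by omega) ⟨oP m.1, hoPn⟩ rfl
        refine ⟨prodA (K.E R) (ts.getD (oW m.1) []) * g,
          Subgroup.mul_mem _ (Subgroup.subset_closure ⟨_, hmem, rfl⟩) hg, r, ?_, ?_⟩
        · rw [hr]
          change repr (lab (oP m.1)) = _
          rw [h4]
        · rw [map_mul, Equiv.Perm.mul_apply, e]
          apply Fin.ext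
          rw [val_word h φ hφ hts hmem]
          exact h5
  exact key _ i rfl

include hφ hts hlab in
/-- The orbit of a subgroup generated by words is given by the labels, through a stabiliser. -/
theorem T_index [Finite (PresentedGroup R)] (r : Fin P.n) (hr : repr (lab r.1) = r.1) :
    ∃ St : Subgroup (subOf K R ts), St.index = {i : Fin P.n | lab i.1 = lab r.1}.ncard ∧
      ∀ g : subOf K R ts, g ∈ St ↔ φ g.1 r = r := by
  let act : MulAction (subOf K R ts) (Fin P.n) := MulAction.compHom (Fin P.n) (φ.comp (subOf K R ts).subtype)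
  have horb : MulAction.orbit (subOf K R ts) r = {i : Fin P.n | lab i.1 = lab r.1} := by
    ext i
    constructor
    · rintro ⟨g, rfl⟩
      exact T_inv h φ hφ hts hlab g.1 g.2 r
    · intro hi
      obtain ⟨g, hg, r', hr', e⟩ := T_conn h φ hφ hts hlab i
      have h1 : r' = r := by
        apply Fin.ext
        rw [hr']
        have hi' : lab i.1 = lab r.1 := hi
        rw [hi', hr]
      exact ⟨⟨g, hg⟩, by rw [h1] at e; exact e⟩
  refine ⟨MulAction.stabilizer (subOf K R ts) r, ?_, fun g => Iff.rfl⟩
  rw [← horb]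
  exact MulAction.index_stabilizer _ _

include hφ hts hlab in
/-- The size of an orbit divides the order. -/
theorem T_dvd [Finite (PresentedGroup R)] (r : Fin P.n) (hr : repr (lab r.1) = r.1) :
    {i : Fin P.n | lab i.1 = lab r.1}.ncard ∣ Nat.card (subOf K R ts) := by
  obtain ⟨St, h1, _⟩ := T_index h φ hφ hts hlab r hr
  rw [← h1]
  exact Subgroup.index_dvd_card St

include hφ hts hlab in
/-- A non trivial element of the stabiliser. -/
theorem T_two [Finite (PresentedGroup R)] (r : Fin P.n) (hr : repr (lab r.1) = r.1) (g : PresentedGroup R)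
    (hg : g ∈ subOf K R ts) (hgr : φ g r = r) (hg1 : g ≠ 1) :
    2 * {i : Fin P.n | lab i.1 = lab r.1}.ncard ≤ Nat.card (subOf K R ts) := by
  obtain ⟨St, h1, h2⟩ := T_index h φ hφ hts hlab r hr
  have h3 := Subgroup.card_mul_index St
  rw [h1] at h3
  rw [← h3]
  apply Nat.mul_le_mul_right
  have : Nontrivial St := by
    refine ⟨⟨⟨⟨g, hg⟩, (h2 _).2 hgr⟩, 1, ?_⟩⟩
    intro e
    apply hg1
    have := congrArg (fun x : St => ((x : subOf K R ts) : PresentedGroup R)) e
    exact this
  exact Finite.one_lt_card_iff_nontrivial.2 this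

include h in
/-- The stabiliser of the point `0`. -/
theorem mem_sub_of_fix [NeZero P.n] (hφ : ∀ c, c < K.k → φ (K.E R c) = h.hG.EP c) (g : PresentedGroup R)
    (hg : φ g 0 = 0) : g ∈ subOf K R subs := by
  have hle := h.le_stab φ hφ
  have htr := h.trans φ hφ
  have hbij := ev_bij φ _ hle htr h.index_spec.1 h.index_spec.2
  have h1 : ev φ _ hle (QuotientGroup.mk g) = ev φ _ hle (QuotientGroup.mk 1) := by
    rw [ev_mk, ev_mk, hg, map_one]
    rfl
  have h2 := QuotientGroup.eq.1 (hbij.1 h1)
  simpa using h2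

end

end Cfsg.Agent.Lib.DCE.Orb
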