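import Cfsg.Agent.Lib.DCE.MatP
import Cfsg.Agent.Lib.TC.Core

/-!
# Orbits on vectors over a prime field

The size of an orbit of a group acting on row vectors divides the order of the group.  The vectors and the matrices are
coded by numbers.
-/

set_option autoImplicit false

namespace Cfsg.Agent.Lib.DCE.MatP

open scoped Matrix
open Cfsg.Agent.Lib.TC.Core

section orbit

variable {G V : Type*} [Group G] [Finite G]

/-- The size of an orbit in a set of points divides the order. -/
theorem orbit_card_dvd (φ : G →* Equiv.Perm V) (gens : Set G) {m : ℕ} (Ω : Fin m → V)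
    (hinj : Function.Injective Ω) (r : Fin m) (hclosed : ∀ g ∈ gens, ∀ i, ∃ j, φ g (Ω i) = Ω j)
    (hconn : ∀ i, ∃ g ∈ Subgroup.closure gens, φ g (Ω r) = Ω i) : m ∣ Nat.card G := by
  have hpow : ∀ g : G, (∀ i, ∃ j, φ g (Ω i) = Ω j) → ∀ n : ℕ, ∀ i, ∃ j, φ (g ^ n) (Ω i) = Ω j := by
    intro g hg n
    induction n with
    | zero => intro i; exact ⟨i, by simp⟩
    | succ n ih =>
      intro i
      obtain ⟨j, hj⟩ := hg i
      obtain ⟨k, hk⟩ := ih j
      refine ⟨k, ?_⟩
      rw [pow_succ, map_mul, Equiv.Perm.mul_apply, hj, hk]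
  have hall : ∀ g ∈ Subgroup.closure gens, ∀ i, ∃ j, φ g (Ω i) = Ω j := by
    intro g hg
    induction hg using Subgroup.closure_induction with
    | mem x hx => exact hclosed x hx
    | one => intro i; exact ⟨i, by simp⟩
    | mul x y _ _ hx hy =>
      intro i
      obtain ⟨j, hj⟩ := hy i
      obtain ⟨k, hk⟩ := hx j
      refine ⟨k, ?_⟩
      rw [map_mul, Equiv.Perm.mul_apply, hj, hk]
    | inv x _ hx =>
      have h1 : x⁻¹ = x ^ (orderOf x - 1) := by
        have h2 : x ^ (orderOf x - 1) * x = 1 := by
          rw [← pow_succ, Nat.sub_add_cancel (orderOf_pos x), pow_orderOf_eq_one]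
        exact (eq_inv_of_mul_eq_one_left h2).symm
      rw [h1]
      exact hpow x hx _
  let T := Subgroup.closure gens
  let act : MulAction T V := MulAction.compHom V (φ.comp T.subtype)
  have horb : MulAction.orbit T (Ω r) = Set.range Ω := by
    ext y
    constructor
    · rintro ⟨g, rfl⟩
      obtain ⟨j, hj⟩ := hall g.1 g.2 r
      exact ⟨j, hj.symm⟩
    · rintro ⟨i, rfl⟩
      obtain ⟨g, hg, e⟩ := hconn i
      exact ⟨⟨g, hg⟩, e⟩
  have h1 : (MulAction.stabilizer T (Ω r)).index = (MulAction.orbit T (Ω r)).ncard :=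
    MulAction.index_stabilizer _ _
  have h2 : (Set.range Ω).ncard = m := by
    rw [← Set.image_univ, Set.ncard_image_of_injective _ hinj, Set.ncard_univ, Nat.card_fin]
  rw [horb, h2] at h1
  have h3 : m ∣ Nat.card T := by
    rw [← h1]
    exact Subgroup.index_dvd_card _
  exact h3.trans (Subgroup.card_subgroup_dvd_card T)

end orbit

section vectors

variable (p d : ℕ)

/-- The vector of a number. -/
def toV (a : ℕ) : Fin d → ZMod p := fun j => ((D a j.val : ℕ) : ZMod p)

theorem red_congr (n : ℕ) (x y : ℕ) (h : ∀ j, j < n → D x j % p = D y j % p) : red p n x = red p n y := by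
  induction n generalizing x y with
  | zero => rfl
  | succ n ih =>
    have h0 := h 0 (by omega)
    rw [D_zero, D_zero] at h0
    rw [red, red, h0, ih (x / β) (y / β)]
    intro j hj
    have := h (j + 1) (by omega)
    rwa [D_succ, D_succ] at this

theorem toV_inj {x y : ℕ} (hx : x = red p d x) (hy : y = red p d y) (h : toV p d x = toV p d y) : x = y := by
  rw [hx, hy]
  apply red_congr
  intro j hj
  have h1 := congrFun h ⟨j, hj⟩
  exact (ZMod.natCast_eq_natCast_iff' _ _ _).1 h1

theorem toV_rowMul [NeZero p] (hp : p ≤ β) (hd : d * (p - 1) ^ 2 < β) (a : ℕ) (B : List ℕ)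
    (ha : GoodR p a) (hB : GoodM p d B) :
    toV p d (rowMul p d a B) = Matrix.vecMul (toV p d a) (toM p d B) := by
  ext j
  have hdig : D (addRows B a 0) j.val = sumR B a j.val := by
    have h := addRows_digit p B hB.2 a ha 0 0 (by simp [D]) (by rw [hB.1]; omega) (NeZero.pos p) j.val
    rw [h]
    simp [D]
  simp only [toV]
  rw [rowMul, red_digit p hp d _ _ j.isLt, hdig, ZMod.natCast_mod, sumR, hB.1, sum_range_eq, Nat.cast_sum]
  simp only [Nat.cast_mul]
  rw [Finset.sum_range]
  rfl

end vectors

section hom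

variable {Γ : Type*} [Group Γ] {d : ℕ} {R : Type*} [Semiring R]

/-- The action on row vectors. -/
noncomputable def actHom (ρ : Γ →* (Matrix (Fin d) (Fin d) R)ˣ) : Γ →* Equiv.Perm (Fin d → R) where
  toFun g :=
    { toFun := fun x => Matrix.vecMul x ((ρ g)⁻¹).val
      invFun := fun x => Matrix.vecMul x (ρ g).val
      left_inv := fun x => by
        simp only [Matrix.vecMul_vecMul]
        rw [← Units.val_mul, inv_mul_cancel, Units.val_one, Matrix.vecMul_one]
      right_inv := fun x => by
        simp only [Matrix.vecMul_vecMul]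
        rw [← Units.val_mul, mul_inv_cancel, Units.val_one, Matrix.vecMul_one] }
  map_one' := by
    ext x
    simp
  map_mul' g h := by
    ext x
    simp [Matrix.vecMul_vecMul, mul_inv_rev]

theorem actHom_inv (ρ : Γ →* (Matrix (Fin d) (Fin d) R)ˣ) (g : Γ) (x : Fin d → R) :
    actHom ρ g⁻¹ x = Matrix.vecMul x (ρ g).val := by
  change Matrix.vecMul x ((ρ g⁻¹)⁻¹).val = _
  rw [map_inv, inv_inv]

end hom

/-- A check for all numbers below a bound. -/
noncomputable def allN (f : ℕ → Bool) (n : ℕ) : Bool :=
  Nat.rec true (fun j ih => andB (f j) ih) n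

theorem allN_spec {f : ℕ → Bool} {n : ℕ} (h : allN f n = true) : ∀ i, i < n → f i = true := by
  induction n with
  | zero => intro i hi; omega
  | succ n ih =>
    have h' : andB (f n) (allN f n) = true := h
    rw [andB_eq_true] at h'
    intro i hi
    by_cases hin : i < n
    · exact ih h'.2 i hin
    · have : i = n := by omega
      rw [this]
      exact h'.1

section check

variable (p d : ℕ) (Gs : List (List ℕ)) (n : ℕ) (vs : ℕ → ℕ) (pi : ℕ → ℕ → ℕ) (m : ℕ)

/-- The check at a point: the point is a vector in normal form and the generators map it to points. -/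
noncomputable def chkPoint (i : ℕ) : Bool :=
  andB (Nat.beq (vs i) (red p d (vs i)))
    (allN (fun g => andB (Nat.blt (pi g i) m) (Nat.beq (rowMul p d (vs i) (Gs.getD g [])) (vs (pi g i)))) n)

/-- The check of the order of the points. -/
noncomputable def chkOrd (i : ℕ) : Bool := Nat.blt (vs i) (vs (i + 1))

/-- The check of a forest. -/
noncomputable def chkTree (r : ℕ) (pr gn dp : ℕ → ℕ) (i : ℕ) : Bool :=
  Bool.rec
    (andB (Nat.blt (pr i) m) (andB (Nat.blt (gn i) n) (andB (Nat.blt (dp (pr i)) (dp i)) (Nat.beq (pi (gn i) (pr i)) i))))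
    true (Nat.beq i r)

variable {p d Gs n vs pi m}

theorem strictMono_of_chkOrd (h : allN (chkOrd vs) (m - 1) = true) (i j : ℕ) (hij : i < j) (hj : j < m) :
    vs i < vs j := by
  induction j with
  | zero => omega
  | succ j ih =>
    have h1 : chkOrd vs j = true := allN_spec h j (by omega)
    have h2 : vs j < vs (j + 1) := Nat.le_of_ble_eq_true h1
    by_cases hi : i < j
    · exact lt_trans (ih hi (by omega)) h2
    · have : i = j := by omega
      rw [this]
      exact h2

/-- The main theorem of this file. -/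
theorem dvd_of_orbit [NeZero p] (hp : p ≤ β) (hd : d * (p - 1) ^ 2 < β) {Γ : Type*} [Group Γ] [Finite Γ]
    (ρ : Γ →* (Matrix (Fin d) (Fin d) (ZMod p))ˣ) (ts : ℕ → Γ)
    (hGood : goodT p d Gs = true) (hlen : n ≤ Gs.length)
    (hts : ∀ g, g < n → (ρ (ts g)).val = toM p d (Gs.getD g []))
    (r : ℕ) (hr : r < m) (pr gn dp : ℕ → ℕ)
    (hP : allN (chkPoint p d Gs n vs pi m) m = true) (hO : allN (chkOrd vs) (m - 1) = true)
    (hT : allN (chkTree n pi m r pr gn dp) m = true) : m ∣ Nat.card Γ := by
  have hpoint : ∀ i, i < m → vs i = red p d (vs i) ∧ ∀ g, g < n → pi g i < m ∧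
      rowMul p d (vs i) (Gs.getD g []) = vs (pi g i) := by
    intro i hi
    have h := allN_spec hP i hi
    rw [chkPoint, andB_eq_true] at h
    refine ⟨Nat.eq_of_beq_eq_true h.1, fun g hg => ?_⟩
    have h2 := allN_spec h.2 g hg
    rw [andB_eq_true] at h2
    exact ⟨Nat.le_of_ble_eq_true h2.1, Nat.eq_of_beq_eq_true h2.2⟩
  have hgoodG : ∀ g, g < n → GoodM p d (Gs.getD g []) := by
    intro g hg
    apply goodM_of_goodB p d hp
    have hg' : g < Gs.length := by omega
    have := List.all_eq_true.mp hGood (Gs.getD g []) (by simp [List.getD_eq_getElem?_getD, hg'])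
    exact this
  have hact : ∀ g, g < n → ∀ i, i < m →
      actHom ρ (ts g)⁻¹ (toV p d (vs i)) = toV p d (vs (pi g i)) := by
    intro g hg i hi
    rw [actHom_inv, hts g hg, ← (hpoint i hi).2 g hg |>.2]
    have hgr : GoodR p (vs i) := by
      rw [(hpoint i hi).1]
      exact goodR_red p d hp _
    exact (toV_rowMul p d hp hd _ _ hgr (hgoodG g hg)).symm
  let Ω : Fin m → (Fin d → ZMod p) := fun i => toV p d (vs i.1)
  have hinj : Function.Injective Ω := by
    intro a b hab
    have h1 : vs a.1 = vs b.1 := toV_inj p d (hpoint a.1 a.2).1 (hpoint b.1 b.2).1 hab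
    apply Fin.ext
    by_contra hne
    rcases lt_or_gt_of_ne hne with h2 | h2
    · have := strictMono_of_chkOrd hO a.1 b.1 h2 b.2
      omega
    · have := strictMono_of_chkOrd hO b.1 a.1 h2 a.2
      omega
  let gens : Set Γ := {x | ∃ g, g < n ∧ x = (ts g)⁻¹}
  refine orbit_card_dvd (actHom ρ) gens Ω hinj ⟨r, hr⟩ ?_ ?_
  · rintro _ ⟨g, hg, rfl⟩ i
    exact ⟨⟨pi g i.1, ((hpoint i.1 i.2).2 g hg).1⟩, hact g hg i.1 i.2⟩
  · have key : ∀ e i, dp i = e → i < m → ∃ x ∈ Subgroup.closure gens, actHom ρ x (toV p d (vs r)) = toV p d (vs i) := by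
      intro e
      induction e using Nat.strong_induction_on with
      | _ e ih =>
        intro i he hi
        have h := allN_spec hT i hi
        rw [chkTree] at h
        cases hb : Nat.beq i r with
        | true =>
          have : i = r := Nat.eq_of_beq_eq_true hb
          subst this
          exact ⟨1, Subgroup.one_mem _, by simp⟩
        | false =>
          rw [hb] at h
          simp only [andB_eq_true] at h
          obtain ⟨h1, h2, h3, h4⟩ := h
          have h1' : pr i < m := Nat.le_of_ble_eq_true h1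
          have h2' : gn i < n := Nat.le_of_ble_eq_true h2
          have h3' : dp (pr i) < dp i := Nat.le_of_ble_eq_true h3
          have h4' : pi (gn i) (pr i) = i := Nat.eq_of_beq_eq_true h4
          obtain ⟨x, hx, ex⟩ := ih (dp (pr i)) (by omega) (pr i) rfl h1'
          refine ⟨(ts (gn i))⁻¹ * x, Subgroup.mul_mem _ (Subgroup.subset_closure ⟨_, h2', rfl⟩) hx, ?_⟩
          rw [map_mul, Equiv.Perm.mul_apply, ex, hact _ h2' _ h1', h4']
    intro i
    exact key _ i.1 rfl i.2

end check

end Cfsg.Agent.Lib.DCE.MatP
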