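import Mathlib

/-!
# Matrices over a prime field, with rows coded by numbers

A row is a number in base `2 ^ 16`; a matrix is a list of rows.  A product of matrices is computed
with operations on numbers only, so that the kernel computes it quickly.
-/

set_option autoImplicit false

namespace Cfsg.Agent.Lib.DCE.MatP

/-- The base. -/
abbrev β : Nat := 65536

/-- The digit at position `j`. -/
def D (x j : Nat) : Nat := x / β ^ j % β

theorem D_zero (x : Nat) : D x 0 = x % β := by simp [D]

theorem D_succ (x j : Nat) : D x (j + 1) = D (x / β) j := by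
  unfold D
  rw [pow_succ', Nat.div_div_eq_div_mul]

theorem D_lt (x j : Nat) : D x j < β := Nat.mod_lt _ (by norm_num)

/-- Addition without carries is digitwise. -/
theorem D_add (j : Nat) : ∀ u v, (∀ s, D u s + D v s < β) → D (u + v) j = D u j + D v j := by
  induction j with
  | zero =>
    intro u v h
    have h0 := h 0
    rw [D_zero, D_zero] at h0
    rw [D_zero, D_zero, D_zero, Nat.add_mod, Nat.mod_eq_of_lt h0]
  | succ j ih =>
    intro u v h
    have h0 := h 0
    rw [D_zero, D_zero] at h0
    have hdiv : (u + v) / β = u / β + v / β := by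
      have e : u + v = (u % β + v % β) + β * (u / β + v / β) := by
        have h1 := Nat.mod_add_div u β
        have h2 := Nat.mod_add_div v β
        rw [Nat.mul_add]
        omega
      rw [e, Nat.add_mul_div_left _ _ (by norm_num), Nat.div_eq_of_lt h0, Nat.zero_add]
    rw [D_succ, D_succ, D_succ, hdiv]
    apply ih
    intro s
    have := h (s + 1)
    rwa [D_succ, D_succ] at this

/-- A multiple, without carries, is digitwise. -/
theorem D_mul_all (x : Nat) : ∀ c, (∀ s, c * D x s < β) → ∀ j, D (c * x) j = c * D x j := by
  intro c
  induction c with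
  | zero => intro _ j; simp [D]
  | succ c ih =>
    intro h j
    have h1 : ∀ s, c * D x s < β := fun s => by
      have h2 := h s
      rw [Nat.succ_mul] at h2
      omega
    have ih' := ih h1
    rw [Nat.succ_mul, D_add j, ih', Nat.succ_mul]
    intro s
    rw [ih']
    have h2 := h s
    rw [Nat.succ_mul] at h2
    exact h2

theorem D_mul (c : Nat) (x j : Nat) (h : ∀ s, c * D x s < β) : D (c * x) j = c * D x j :=
  D_mul_all x c h j

/-- The digits of a number of the form `a + β * b`. -/
theorem D_cons_zero (a b : Nat) (ha : a < β) : D (a + β * b) 0 = a := by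
  rw [D_zero, Nat.add_mul_mod_self_left, Nat.mod_eq_of_lt ha]

theorem D_cons_succ (a b j : Nat) (ha : a < β) : D (a + β * b) (j + 1) = D b j := by
  rw [D_succ]
  congr 1
  rw [Nat.add_mul_div_left _ _ (by norm_num), Nat.div_eq_of_lt ha, Nat.zero_add]

section Field

variable (p : Nat)

/-- The reduction of the first `n` digits modulo `p`; the other digits are dropped. -/
def red : Nat → Nat → Nat
  | 0, _ => 0
  | n + 1, x => (x % β % p) + β * red n (x / β)

theorem red_digit [NeZero p] (hp : p ≤ β) (n x j : Nat) (hj : j < n) : D (red p n x) j = D x j % p := by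
  induction n generalizing x j with
  | zero => omega
  | succ n ih =>
    have hlt : x % β % p < β := lt_of_lt_of_le (Nat.mod_lt _ (NeZero.pos p)) hp
    cases j with
    | zero =>
      rw [red, D_cons_zero _ _ hlt, D_zero]
    | succ j =>
      rw [red, D_cons_succ _ _ _ hlt, ih _ _ (by omega), D_succ]

theorem red_digit_high [NeZero p] (hp : p ≤ β) (n x j : Nat) (hj : n ≤ j) : D (red p n x) j = 0 := by
  induction n generalizing x j with
  | zero => simp [red, D]
  | succ n ih =>
    have hlt : x % β % p < β := lt_of_lt_of_le (Nat.mod_lt _ (NeZero.pos p)) hp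
    obtain ⟨i, rfl⟩ : ∃ i, j = i + 1 := ⟨j - 1, by omega⟩
    rw [red, D_cons_succ _ _ _ hlt, ih _ _ (by omega)]

/-- The sum of multiples of rows. The digits of the first number, one after the other, are the
coefficients of the rows. -/
def addRows : List Nat → Nat → Nat → Nat
  | [], _, acc => acc
  | r :: rs, a, acc => addRows rs (a / β) (acc + (a % β) * r)

/-- The product of a row by a matrix. -/
def rowMul (d : Nat) (a : Nat) (B : List Nat) : Nat := red p d (addRows B a 0)

/-- The product of two matrices. -/
def mulM (d : Nat) (A B : List Nat) : List Nat := A.map fun a => rowMul p d a B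

/-- A row is good if all its digits are small. -/
def GoodR (x : Nat) : Prop := ∀ j, D x j < p

/-- The sum in `addRows`, as a function of the digits. -/
def sumR (B : List Nat) (a j : Nat) : Nat :=
  ((List.range B.length).map fun k => D a k * D (B.getD k 0) j).sum

theorem sumR_nil (a j : Nat) : sumR [] a j = 0 := rfl

theorem sumR_cons (r : Nat) (B : List Nat) (a j : Nat) :
    sumR (r :: B) a j = D a 0 * D r j + sumR B (a / β) j := by
  unfold sumR
  rw [List.length_cons, List.range_succ_eq_map, List.map_cons, List.sum_cons, List.map_map]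
  congr 2
  apply List.map_congr_left
  intro k _
  simp only [Function.comp, List.getD_cons_succ, D_succ]

/-- The digits of the sum of rows. -/
theorem addRows_digit
    (B : List Nat) (hB : ∀ r ∈ B, GoodR p r) (a : Nat) (ha : GoodR p a) (acc : Nat)
    (c : Nat) (hacc : ∀ s, D acc s ≤ c) (hc : c + B.length * (p - 1) ^ 2 < β) (hp : 0 < p) (j : Nat) :
    D (addRows B a acc) j = D acc j + sumR B a j := by
  induction B generalizing a acc c with
  | nil => simp [addRows, sumR_nil]
  | cons r B ih =>
    have hg : GoodR p (a / β) := fun s => by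
      have := ha (s + 1)
      rwa [D_succ] at this
    have hr := hB r (by simp)
    have h0 : a % β < p := by
      have := ha 0
      rwa [D_zero] at this
    have hle : ∀ s, (a % β) * D r s ≤ (p - 1) ^ 2 := fun s => by
      have h1 := hr s
      rw [pow_two]
      exact Nat.mul_le_mul (by omega) (by omega)
    have hlen : (r :: B).length * (p - 1) ^ 2 = (p - 1) ^ 2 + B.length * (p - 1) ^ 2 := by
      simp only [List.length_cons]
      ring
    rw [hlen] at hc
    have hm : ∀ s, D ((a % β) * r) s = (a % β) * D r s := fun s =>
      D_mul _ _ _ (fun t => by have := hle t; omega)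
    have hadd : ∀ s, D (acc + (a % β) * r) s = D acc s + (a % β) * D r s := fun s => by
      rw [D_add, hm]
      intro t
      rw [hm]
      have := hacc t
      have := hle t
      omega
    have hacc2 : ∀ s, D (acc + (a % β) * r) s ≤ c + (p - 1) ^ 2 := fun s => by
      rw [hadd]
      have := hacc s
      have := hle s
      omega
    rw [addRows, ih (fun x hx => hB x (by simp [hx])) (a / β) hg _ (c + (p - 1) ^ 2) hacc2 (by omega),
      hadd, sumR_cons, D_zero]
    ring

theorem sum_range_eq (n : Nat) (f : Nat → Nat) :
    ((List.range n).map f).sum = ∑ k ∈ Finset.range n, f k := by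
  induction n with
  | zero => simp
  | succ n ih =>
    rw [List.range_succ, List.map_append, List.sum_append, ih, Finset.sum_range_succ]
    simp

variable (d : Nat)

/-- The matrix of a list of rows. -/
def toM (A : List Nat) : Matrix (Fin d) (Fin d) (ZMod p) :=
  fun i j => ((D (A.getD i.val 0) j.val : Nat) : ZMod p)

/-- A good matrix. -/
def GoodM (A : List Nat) : Prop := A.length = d ∧ ∀ r ∈ A, GoodR p r

theorem goodR_red [NeZero p] (hp : p ≤ β) (x : Nat) : GoodR p (red p d x) := by
  intro j
  have hp0 : 0 < p := NeZero.pos p
  by_cases hj : j < d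
  · rw [red_digit p hp d x j hj]
    exact Nat.mod_lt _ hp0
  · rw [red_digit_high p hp d x j (by omega)]
    exact hp0

theorem goodM_mulM [NeZero p] (hp : p ≤ β) (A B : List Nat) (hA : GoodM p d A) :
    GoodM p d (mulM p d A B) := by
  refine ⟨by simp [mulM, hA.1], ?_⟩
  intro r hr
  simp only [mulM, List.mem_map] at hr
  obtain ⟨a, _, rfl⟩ := hr
  exact goodR_red p d hp _

theorem toM_mulM [NeZero p] (hp : p ≤ β) (hd : d * (p - 1) ^ 2 < β) (A B : List Nat)
    (hA : GoodM p d A) (hB : GoodM p d B) :
    toM p d (mulM p d A B) = toM p d A * toM p d B := by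
  ext i j
  rw [Matrix.mul_apply]
  have hi : i.val < A.length := by rw [hA.1]; exact i.isLt
  have hget : (mulM p d A B).getD i.val 0 = rowMul p d (A.getD i.val 0) B := by
    simp [mulM, List.getD_eq_getElem?_getD, hi]
  have hgood : GoodR p (A.getD i.val 0) := by
    apply hA.2
    simp [List.getD_eq_getElem?_getD, hi]
  have hdig : D (addRows B (A.getD i.val 0) 0) j.val = sumR B (A.getD i.val 0) j.val := by
    have h := addRows_digit p B hB.2 (A.getD i.val 0) hgood 0 0 (by simp [D])
      (by rw [hB.1]; omega) (NeZero.pos p) j.val
    rw [h]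
    simp [D]
  simp only [toM]
  rw [hget, rowMul, red_digit p hp d _ _ j.isLt, hdig, ZMod.natCast_mod, sumR, hB.1,
    sum_range_eq, Nat.cast_sum]
  simp only [Nat.cast_mul]
  rw [Finset.sum_range]

/-- The rows of the identity. -/
def idM : List Nat := (List.range d).map fun i => β ^ i

theorem D_pow (i j : Nat) : D (β ^ i) j = if i = j then 1 else 0 := by
  rcases lt_trichotomy i j with h | h | h
  · rw [if_neg (by omega)]
    have : β ^ i / β ^ j = 0 := Nat.div_eq_of_lt (Nat.pow_lt_pow_right (by norm_num) h)
    simp [D, this]
  · subst h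
    simp [D]
  · rw [if_neg (by omega)]
    have h1 : β ^ i / β ^ j = β ^ (i - j) := Nat.pow_div (by omega) (by norm_num)
    obtain ⟨k, hk⟩ : ∃ k, i - j = k + 1 := ⟨i - j - 1, by omega⟩
    simp [D, h1, hk, pow_succ]

theorem toM_idM [NeZero p] : toM p d (idM d) = 1 := by
  ext i j
  have hi : i.val < d := i.isLt
  have hget : (idM d).getD i.val 0 = β ^ i.val := by
    simp [idM, List.getD_eq_getElem?_getD, hi]
  simp only [toM]
  rw [hget, D_pow, Matrix.one_apply]
  by_cases h : i = j
  · subst h; simp
  · rw [if_neg h, if_neg (fun e => h (Fin.ext e))]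
    simp

theorem goodM_idM (hp : 1 < p) : GoodM p d (idM d) := by
  refine ⟨by simp [idM], ?_⟩
  intro r hr
  simp only [idM, List.mem_map] at hr
  obtain ⟨i, _, rfl⟩ := hr
  intro j
  rw [D_pow]
  split_ifs <;> omega

/-- A check that a matrix is good. -/
def goodB (A : List Nat) : Bool :=
  A.length == d && A.all fun r => r == red p d r

theorem goodM_of_goodB [NeZero p] (hp : p ≤ β) (A : List Nat) (h : goodB p d A = true) :
    GoodM p d A := by
  simp only [goodB, Bool.and_eq_true, beq_iff_eq, List.all_eq_true] at h
  refine ⟨h.1, ?_⟩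
  intro r hr
  have := h.2 r hr
  rw [this]
  exact goodR_red p d hp _

/-- The product of the letters of a word, from the left. -/
def prodW (T : List (List Nat)) (acc : List Nat) : List Nat → List Nat
  | [] => acc
  | l :: w => prodW T (mulM p d acc (T.getD l [])) w

/-- A check that a table is good. -/
def goodT (T : List (List Nat)) : Bool := T.all (goodB p d)

/-- The check that a word has value one. -/
def checkW (T : List (List Nat)) (w : List Nat) : Bool :=
  w.all (fun l => decide (l < T.length)) && prodW p d T (idM d) w == idM d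

/-- The letters as matrices. -/
def lettM (T : List (List Nat)) (l : Nat) : Matrix (Fin d) (Fin d) (ZMod p) := toM p d (T.getD l [])

theorem toM_prodW [NeZero p] (hp : p ≤ β) (hd : d * (p - 1) ^ 2 < β) (T : List (List Nat))
    (hT : goodT p d T = true) (w : List Nat) (hw : ∀ l ∈ w, l < T.length) (acc : List Nat)
    (hacc : GoodM p d acc) :
    toM p d (prodW p d T acc w) = toM p d acc * (w.map (lettM p d T)).prod := by
  induction w generalizing acc with
  | nil => simp [prodW]
  | cons l w ih =>
    have hl : l < T.length := hw l (by simp)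
    have hgl : GoodM p d (T.getD l []) := by
      apply goodM_of_goodB p d hp
      have := List.all_eq_true.mp hT (T.getD l []) (by simp [List.getD_eq_getElem?_getD, hl])
      exact this
    rw [prodW, ih (fun x hx => hw x (by simp [hx])) _ (goodM_mulM p d hp _ _ hacc),
      toM_mulM p d hp hd _ _ hacc hgl, List.map_cons, List.prod_cons, mul_assoc]
    rfl

theorem prod_of_checkW [NeZero p] (hp : p ≤ β) (hp1 : 1 < p) (hd : d * (p - 1) ^ 2 < β)
    (T : List (List Nat)) (hT : goodT p d T = true) (w : List Nat)
    (h : checkW p d T w = true) : (w.map (lettM p d T)).prod = 1 := by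
  simp only [checkW, Bool.and_eq_true, List.all_eq_true, decide_eq_true_eq, beq_iff_eq] at h
  have := toM_prodW p d hp hd T hT w h.1 (idM d) (goodM_idM p d hp1)
  rw [h.2, toM_idM, one_mul] at this
  exact this.symm

end Field

end Cfsg.Agent.Lib.DCE.MatP
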