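import Cfsg.Agent.Lib.TC.Iso

/-!
# Presented groups on `n` letters and their inverses

Words are lists of the numbers `0, …, 2 * n - 1`; the number `n + c` stands for the inverse of the letter `c`.  The
tools for coset enumeration apply to these presented groups.
-/

namespace Cfsg.Agent.Lib.DCE.Pres

open Cfsg.Agent.Lib.TC.Core Cfsg.Agent.Lib.TC.Pres Cfsg.Agent.Lib.TC.Perm Cfsg.Agent.Lib.TC.Main
  Cfsg.Agent.Lib.TC.Chain Cfsg.Agent.Lib.TC.Iso

variable (n : Nat) [NeZero n] (rels : List (List Nat))

/-- The signed letter of a column. -/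
def sl (c : Nat) : Fin n × Bool :=
  cond (Nat.blt c n) (Fin.ofNat n c, true) (Fin.ofNat n (c - n), false)

/-- The free word of a list of columns: the list is in the order of application. -/
def lst (l : List Nat) : List (Fin n × Bool) := (l.reverse).map (sl n)

/-- The relators. -/
def R : Set (FreeGroup (Fin n)) := {r | ∃ l ∈ rels, r = FreeGroup.mk (lst n l)}

/-- The inverse column. -/
def invC (c : Nat) : Nat := cond (Nat.blt c n) (Nat.add c n) (Nat.sub c n)

/-- The columns. -/
def K : Cols (Fin n) :=
  ⟨2 * n, fun x => x.val, fun c => Fin.ofNat n (cond (Nat.blt c n) c (c - n)), fun c => Nat.blt c n, invC n⟩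

omit [NeZero n] in
theorem blt_iff (c : Nat) : Nat.blt c n = true ↔ c < n := by
  rw [Nat.blt_eq]

theorem letter_sl (c : Nat) (hc : c < 2 * n) : (K n).letter (sl n c) = c := by
  by_cases h : c < n
  · have h1 : Nat.blt c n = true := (blt_iff n c).2 h
    simp only [sl, h1, cond_true, Cols.letter]
    change (Fin.ofNat n c).val = c
    simp [Fin.ofNat, Nat.mod_eq_of_lt h]
  · have h1 : Nat.blt c n = false := by
      cases h2 : Nat.blt c n with
      | false => rfl
      | true => exact absurd ((blt_iff n c).1 h2) h
    simp only [sl, h1, cond_false, Cols.letter]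
    have h3 : c - n < n := by omega
    have h4 : (Fin.ofNat n (c - n)).val = c - n := by
      simp [Fin.ofNat, Nat.mod_eq_of_lt h3]
    change invC n (Fin.ofNat n (c - n)).val = c
    rw [h4, invC]
    have h5 : Nat.blt (c - n) n = true := (blt_iff n _).2 h3
    rw [h5, cond_true]
    change c - n + n = c
    omega

theorem word_lst (l : List Nat) (hl : ∀ z ∈ l, z < 2 * n) : (K n).word (lst n l) = l := by
  rw [Cols.word, lst, List.map_map]
  have h : (List.map ((K n).letter ∘ sl n) l.reverse) = l.reverse := by
    have : ∀ m : List Nat, (∀ z ∈ m, z < 2 * n) → List.map ((K n).letter ∘ sl n) m = m := by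
      intro m
      induction m with
      | nil => simp
      | cons a m ih =>
        intro hm
        rw [List.map_cons, ih (fun y hy => hm y (by simp [hy]))]
        congr 1
        exact letter_sl n a (hm a (by simp))
    exact this _ (fun y hy => hl y (List.mem_reverse.1 hy))
  rw [h, List.reverse_reverse]

theorem hR (hk : ∀ l ∈ rels, ∀ z ∈ l, z < 2 * n) :
    ∀ r ∈ R n rels, ∃ L, r = FreeGroup.mk L ∧ ∃ j, rotN ((K n).word L) j ∈ rels := by
  rintro r ⟨l, hl, rfl⟩
  refine ⟨_, rfl, 0, ?_⟩
  rw [word_lst n l (hk l hl)]
  simpa [rotN] using hl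

theorem hrels (hk : ∀ l ∈ rels, ∀ z ∈ l, z < 2 * n) :
    ∀ l ∈ rels, ∃ L, FreeGroup.mk L ∈ R n rels ∧ l = (K n).word L := by
  intro l hl
  exact ⟨lst n l, ⟨l, hl, rfl⟩, (word_lst n l (hk l hl)).symm⟩

theorem valid : (K n).Valid (R := R n rels) where
  col_lt := fun x => by
    have := x.2
    change x.val < 2 * n
    omega
  gen_col := fun x => by
    apply Fin.ext
    change (Fin.ofNat n (cond (Nat.blt x.val n) x.val (x.val - n))).val = x.val
    have h1 : Nat.blt x.val n = true := (blt_iff n _).2 x.2
    rw [h1, cond_true]
    simp [Fin.ofNat, Nat.mod_eq_of_lt x.2]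
  sgn_col := fun x => (blt_iff n _).2 x.2
  inv_lt := fun c hc => by
    have hc' : c < 2 * n := hc
    change invC n c < 2 * n
    rw [invC]
    cases h : Nat.blt c n with
    | true =>
      have := (blt_iff n c).1 h
      change c + n < 2 * n
      omega
    | false =>
      change c - n < 2 * n
      omega
  col_gen := fun c hc hs => by
    have h1 : c < n := (blt_iff n c).1 hs
    change (Fin.ofNat n (cond (Nat.blt c n) c (c - n))).val = c
    rw [show Nat.blt c n = true from hs, cond_true]
    simp [Fin.ofNat, Nat.mod_eq_of_lt h1]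
  inv_true := fun c hc hs _ => by
    have h1 : c < n := (blt_iff n c).1 hs
    have h2 : invC n c = c + n := by
      rw [invC, show Nat.blt c n = true from hs, cond_true]
      rfl
    have h3 : Nat.blt (c + n) n = false := by
      cases h : Nat.blt (c + n) n with
      | false => rfl
      | true =>
        have := (blt_iff n _).1 h
        omega
    constructor
    · change Fin.ofNat n (cond (Nat.blt (invC n c) n) (invC n c) (invC n c - n)) =
        Fin.ofNat n (cond (Nat.blt c n) c (c - n))
      rw [h2, h3, show Nat.blt c n = true from hs, cond_true, cond_false]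
      congr 1
      omega
    · change Nat.blt (invC n c) n = false
      rw [h2, h3]
  inv_false := fun c hc hs => by
    have hc' : c < 2 * n := hc
    have h1 : ¬ c < n := fun h => by
      have := (blt_iff n c).2 h
      rw [show Nat.blt c n = false from hs] at this
      exact absurd this (by simp)
    change invC n c = (Fin.ofNat n (cond (Nat.blt c n) c (c - n))).val
    rw [invC, show Nat.blt c n = false from hs, cond_false, cond_false]
    have h3 : c - n < n := by omega
    have h4 : (Fin.ofNat n (c - n)).val = c - n := by
      simp [Fin.ofNat, Nat.mod_eq_of_lt h3]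
    rw [h4]
    rfl
  invol := fun c hc h => by
    exfalso
    have hc' : c < 2 * n := hc
    have h' : invC n c = c := h
    rw [invC] at h'
    have hpos : 0 < n := NeZero.pos n
    cases h2 : Nat.blt c n with
    | true =>
      rw [h2] at h'
      change c + n = c at h'
      omega
    | false =>
      rw [h2] at h'
      change c - n = c at h'
      have := (blt_iff n c)
      have h3 : ¬ c < n := fun h4 => by
        rw [this.2 h4] at h2
        exact absurd h2 (by simp)
      omega

/-- A homomorphism from letters. -/
theorem exists_hom {Q : Type*} [Group Q] (hk : ∀ l ∈ rels, ∀ z ∈ l, z < 2 * n) (F : Nat → Q)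
    (hinv : ∀ c, c < 2 * n → F (invC n c) = (F c)⁻¹) (hrel : ∀ l ∈ rels, prodA F l = 1) :
    ∃ ψ : PresentedGroup (R n rels) →* Q, ∀ c, c < 2 * n → ψ ((K n).E (R n rels) c) = F c :=
  exists_hom_of_letters (valid n rels) (hR n rels hk) F hinv hrel

end Cfsg.Agent.Lib.DCE.Pres
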